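import Mathlib

/-!
A finite group with a faithful action on `d` points has at most `2 ^ (d - 1)` classes.
The induction carries along the same bound for the sum of the numbers of fixed points of the
classes, both written as counts of commuting pairs.
-/

set_option autoImplicit false

namespace CfsgLib.ClassesPerm

open Equiv Finset
open scoped Classical

/-- Number of elements that commute with `g`. -/
noncomputable def cz {G : Type} [Group G] [Fintype G] (g : G) : ℕ :=
  (univ.filter fun h : G => Commute g h).card

lemma cz_eq {G : Type} [Group G] [Fintype G] (g : G) :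
    cz g = (univ.filter fun h : G => Commute g h).card := rfl

/-- Number of commuting pairs. -/
noncomputable def pairs (G : Type) [Group G] [Fintype G] : ℕ := ∑ g : G, cz g

/-- Commuting pairs weighted by fixed points. -/
noncomputable def fixPairs {G X : Type} [Group G] [Fintype G] [Fintype X] (φ : G →* Perm X) : ℕ :=
  ∑ g : G, (univ.filter fun x => φ g x = x).card * cz g

/-- The action of a subgroup on an invariant subtype. -/
def restr {G X : Type} [Group G] (φ : G →* Perm X) (H : Subgroup G) (p : X → Prop)
    (h : ∀ g ∈ H, ∀ x, p (φ g x) ↔ p x) : H →* Perm {x // p x} where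
  toFun g := (φ g).subtypePerm (h g g.2)
  map_one' := by ext x; simp
  map_mul' a b := by
    ext x
    show φ ((a * b : H) : G) x = φ a (φ b x)
    simp

@[simp] lemma restr_apply {G X : Type} [Group G] (φ : G →* Perm X) (H : Subgroup G) (p : X → Prop)
    (h : ∀ g ∈ H, ∀ x, p (φ g x) ↔ p x) (g : H) (x : {x // p x}) :
    ((restr φ H p h g x : {x // p x}) : X) = φ g x := rfl

section fibres

variable {G Q : Type} [Group G] [Fintype G] [Group Q] [Fintype Q]

/-- Commuting pairs over a pair of cosets of a kernel. -/
lemma fibre_le (f : G →* Q) (a b : Q) :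
    ∑ g ∈ univ.filter (fun g => f g = a), (univ.filter fun h => Commute g h ∧ f h = b).card
      ≤ pairs f.ker := by
  have key : ∀ g : G, (univ.filter fun h => Commute g h ∧ f h = b).card ≤
      (univ.filter fun n : f.ker => Commute g (n : G)).card := by
    intro g
    by_cases he : ∃ h, Commute g h ∧ f h = b
    · obtain ⟨h₀, h1, h2⟩ := he
      refine Finset.card_le_card_of_injOn
        (fun h => if hh : f h = b then ⟨h₀⁻¹ * h, by simp [MonoidHom.mem_ker, hh, h2]⟩ else 1) ?_ ?_
      · intro h hh
        simp only [coe_filter, mem_univ, true_and, Set.mem_ofPred_eq] at hh ⊢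
        simp only [hh.2, dite_true]
        exact h1.inv_right.mul_right hh.1
      · intro h hh h' hh' e
        simp only [coe_filter, mem_univ, true_and, Set.mem_ofPred_eq] at hh hh'
        simp only [hh.2, hh'.2, dite_true, Subtype.mk.injEq] at e
        exact mul_left_cancel e
    · rw [not_exists] at he
      simp [Finset.filter_eq_empty_iff.2 fun h _ => he h]
  refine (Finset.sum_le_sum fun g _ => key g).trans ?_
  simp only [card_filter]
  rw [Finset.sum_comm]
  refine Finset.sum_le_sum fun n _ => ?_
  rw [← card_filter, cz_eq]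
  by_cases he : ∃ g, f g = a ∧ Commute g (n : G)
  · obtain ⟨g₀, h1, h2⟩ := he
    refine Finset.card_le_card_of_injOn
      (fun g => if hh : f g = a then ⟨g₀⁻¹ * g, by simp [MonoidHom.mem_ker, hh, h1]⟩ else 1) ?_ ?_
    · intro g hg
      simp only [coe_filter, mem_filter, mem_univ, true_and, Set.mem_ofPred_eq] at hg ⊢
      simp only [hg.1, dite_true]
      have : Commute (n : G) (g₀⁻¹ * g) := h2.symm.inv_right.mul_right hg.2.symm
      exact Subtype.ext this.eq
    · intro g hg g' hg' e
      simp only [coe_filter, mem_filter, mem_univ, true_and, Set.mem_ofPred_eq] at hg hg'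
      simp only [hg.1, hg'.1, dite_true, Subtype.mk.injEq] at e
      exact mul_left_cancel e
  · rw [not_exists] at he
    refine le_of_eq_of_le ?_ (Nat.zero_le _)
    rw [Finset.card_eq_zero, Finset.filter_eq_empty_iff]
    intro g hg hc
    exact he g ⟨(mem_filter.1 hg).2, hc⟩

/-- Passing to a quotient, with a weight. -/
lemma weighted_le (f : G →* Q) (w : Q → ℕ) :
    ∑ g : G, w (f g) * cz g ≤ (∑ a : Q, w a * cz a) * pairs f.ker := by
  rw [← Finset.sum_fiberwise (univ : Finset G) (fun g => f g), Finset.sum_mul]
  refine Finset.sum_le_sum fun a _ => ?_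
  calc ∑ g ∈ univ.filter (fun g => f g = a), w (f g) * cz g
      = w a * ∑ g ∈ univ.filter (fun g => f g = a), cz g := by
        rw [Finset.mul_sum]
        exact Finset.sum_congr rfl fun g hg => by rw [(mem_filter.1 hg).2]
    _ ≤ w a * (cz a * pairs f.ker) := by
        refine Nat.mul_le_mul le_rfl ?_
        have hsplit : ∀ g ∈ univ.filter (fun g => f g = a), cz g =
            ∑ b ∈ univ.filter (fun b : Q => Commute a b),
              (univ.filter fun h => Commute g h ∧ f h = b).card := by
          intro g hg
          rw [cz_eq, Finset.card_eq_sum_card_fiberwise (f := fun h => f h)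
            (t := univ.filter fun b : Q => Commute a b)]
          · exact Finset.sum_congr rfl fun b _ => by rw [Finset.filter_filter]
          · intro h hh
            simp only [coe_filter, mem_univ, true_and, Set.mem_ofPred_eq] at hh ⊢
            rw [← (mem_filter.1 hg).2]
            exact hh.map f
        rw [Finset.sum_congr rfl hsplit, Finset.sum_comm, cz_eq]
        refine (Finset.sum_le_sum fun b _ => fibre_le f a b).trans ?_
        rw [Finset.sum_const, smul_eq_mul]
    _ = w a * cz a * pairs f.ker := (mul_assoc _ _ _).symm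

lemma pairs_le_quot (f : G →* Q) : pairs G ≤ pairs Q * pairs f.ker := by
  have := weighted_le f (fun _ => 1)
  simpa [pairs] using this

end fibres

/-- The statement carried through the induction. -/
def Bounded (d : ℕ) : Prop :=
  ∀ (G X : Type) [Group G] [Fintype G] [Fintype X] (φ : G →* Perm X), Function.Injective φ →
    Fintype.card X = d →
      pairs G ≤ 2 ^ (d - 1) * Fintype.card G ∧ fixPairs φ ≤ 2 ^ (d - 1) * Fintype.card G

section steps

variable {G X : Type} [Group G] [Fintype G] [Fintype X]

/-- A quotient acting on one side, the kernel on the other. -/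
lemma split_core {Q A B : Type} [Group Q] [Fintype Q] [Fintype A] [Fintype B]
    (f : G →* Q) (hf : Function.Surjective f) (σ : Q →* Perm A) (hσ : Function.Injective σ)
    (θ : f.ker →* Perm B) (hθ : Function.Injective θ) (ha : 0 < Fintype.card A) (hb : 0 < Fintype.card B)
    (hsum : Fintype.card A + Fintype.card B = Fintype.card X)
    (ih : ∀ e, 0 < e → e < Fintype.card X → Bounded e) :
    pairs G ≤ 2 ^ (Fintype.card X - 2) * Fintype.card G ∧
      ∑ g : G, (univ.filter fun x => σ (f g) x = x).card * cz g
        ≤ 2 ^ (Fintype.card X - 2) * Fintype.card G := by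
  obtain ⟨qP, qB⟩ := ih _ ha (by omega) Q A σ hσ rfl
  obtain ⟨nP, -⟩ := ih _ hb (by omega) f.ker B θ hθ rfl
  have hG : Fintype.card Q * Fintype.card f.ker = Fintype.card G := by
    simp only [← Nat.card_eq_fintype_card]
    rw [← f.ker.card_mul_index, f.ker.index_eq_card, mul_comm,
      Nat.card_congr (QuotientGroup.quotientKerEquivOfSurjective f hf).toEquiv]
  have main : ∀ n : ℕ, n ≤ 2 ^ (Fintype.card A - 1) * Fintype.card Q →
      n * pairs f.ker ≤ 2 ^ (Fintype.card X - 2) * Fintype.card G := by
    intro n hn
    refine (Nat.mul_le_mul hn nP).trans (le_of_eq ?_)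
    rw [mul_mul_mul_comm, hG, ← pow_add]
    congr 2
    omega
  exact ⟨(pairs_le_quot f).trans (main _ qP),
    (weighted_le f fun q => (univ.filter fun x => σ q x = x).card).trans (main _ qB)⟩

/-- One side of an invariant split. -/
lemma split_side (φ : G →* Perm X) (hφ : Function.Injective φ) (p : X → Prop)
    (hp : ∀ g x, p (φ g x) ↔ p x) (ha : ∃ x, p x) (hb : ∃ x, ¬ p x)
    (ih : ∀ e, 0 < e → e < Fintype.card X → Bounded e) :
    pairs G ≤ 2 ^ (Fintype.card X - 2) * Fintype.card G ∧
      ∑ g : G, (univ.filter fun x => φ g x = x ∧ p x).card * cz g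
        ≤ 2 ^ (Fintype.card X - 2) * Fintype.card G := by
  let ψ : G →* Perm {x // p x} :=
    (restr φ ⊤ p fun g _ => hp g).comp Subgroup.topEquiv.symm.toMonoidHom
  have hψ : ∀ g (x : {x // p x}), ((ψ g x : {x // p x}) : X) = φ g x := fun g x => rfl
  let θ : ψ.rangeRestrict.ker →* Perm {x // ¬ p x} :=
    restr φ ψ.rangeRestrict.ker (fun x => ¬ p x) fun g _ x => not_congr (hp g x)
  have hθ : Function.Injective θ := by
    rw [injective_iff_map_eq_one]
    intro n hn
    refine Subtype.ext (hφ (Equiv.ext fun x => ?_))
    rw [Subgroup.coe_one, map_one, Perm.one_apply]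
    by_cases hx : p x
    · have h1 : ψ (n : G) = 1 := congrArg Subtype.val (MonoidHom.mem_ker.1 n.2)
      exact congrArg Subtype.val (Perm.congr_fun h1 ⟨x, hx⟩)
    · exact congrArg Subtype.val (Perm.congr_fun hn ⟨x, hx⟩)
  have hcard : Fintype.card {x // p x} + Fintype.card {x // ¬ p x} = Fintype.card X := by
    rw [← Fintype.card_sum]; exact Fintype.card_congr (Equiv.sumCompl p)
  obtain ⟨h1, h2⟩ := split_core ψ.rangeRestrict ψ.rangeRestrict_surjective ψ.range.subtype
    ψ.range.subtype_injective θ hθ (Fintype.card_pos_iff.2 (nonempty_subtype.2 ha))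
    (Fintype.card_pos_iff.2 (nonempty_subtype.2 hb)) hcard ih
  refine ⟨h1, le_trans (le_of_eq ?_) h2⟩
  refine Finset.sum_congr rfl fun g _ => ?_
  congr 1
  refine Finset.card_bij (fun x hx => (⟨x, (mem_filter.1 hx).2.2⟩ : {x // p x})) ?_ ?_ ?_
  · intro x hx
    simp only [mem_filter, mem_univ, true_and] at hx ⊢
    exact Subtype.ext ((hψ g _).trans hx.1)
  · intro x hx y hy e
    exact congrArg Subtype.val e
  · intro y hy
    simp only [mem_filter, mem_univ, true_and] at hy
    refine ⟨y.1, ?_, rfl⟩
    simp only [mem_filter, mem_univ, true_and]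
    exact ⟨(hψ g y).symm.trans (congrArg Subtype.val hy), y.2⟩

lemma step_intrans (φ : G →* Perm X) (hφ : Function.Injective φ) (x₀ y₀ : X)
    (hy : ∀ g, φ g x₀ ≠ y₀) (ih : ∀ e, 0 < e → e < Fintype.card X → Bounded e) :
    pairs G ≤ 2 ^ (Fintype.card X - 1) * Fintype.card G ∧
      fixPairs φ ≤ 2 ^ (Fintype.card X - 1) * Fintype.card G := by
  let p : X → Prop := fun x => ∃ g, φ g x₀ = x
  have hp : ∀ g x, p (φ g x) ↔ p x := fun g x =>
    ⟨fun ⟨k, hk⟩ => ⟨g⁻¹ * k, by simp [hk]⟩, fun ⟨k, hk⟩ => ⟨g * k, by simp [hk]⟩⟩
  have ha : ∃ x, p x := ⟨x₀, 1, by simp⟩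
  have hb : ∃ x, ¬ p x := ⟨y₀, fun ⟨g, hg⟩ => hy g hg⟩
  obtain ⟨h1, h2⟩ := split_side φ hφ p hp ha hb ih
  obtain ⟨-, h3⟩ := split_side φ hφ (fun x => ¬ p x) (fun g x => not_congr (hp g x))
    hb (by obtain ⟨x, hx⟩ := ha; exact ⟨x, not_not_intro hx⟩) ih
  have h2' : 2 ≤ Fintype.card X :=
    Fintype.one_lt_card_iff.2 ⟨x₀, y₀, fun e => hy 1 (by simpa using e)⟩
  have hpow : 2 ^ (Fintype.card X - 1) * Fintype.card G =
      2 ^ (Fintype.card X - 2) * Fintype.card G + 2 ^ (Fintype.card X - 2) * Fintype.card G := by
    rw [← two_mul, ← mul_assoc, ← pow_succ']; congr 2; omega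
  refine ⟨by rw [hpow]; omega, ?_⟩
  have hs : fixPairs φ = (∑ g : G, (univ.filter fun x => φ g x = x ∧ p x).card * cz g) +
      ∑ g : G, (univ.filter fun x => φ g x = x ∧ ¬ p x).card * cz g := by
    rw [fixPairs, ← Finset.sum_add_distrib]
    refine Finset.sum_congr rfl fun g _ => ?_
    rw [← add_mul, ← Finset.card_filter_add_card_filter_not (s := univ.filter fun x => φ g x = x) p,
      Finset.filter_filter, Finset.filter_filter]
  rw [hs, hpow]
  exact Nat.add_le_add (le_of_eq_of_le (by congr!) h2) (le_of_eq_of_le (by congr!) h3)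

/-- Point stabiliser. -/
def stab (φ : G →* Perm X) (a : X) : Subgroup G where
  carrier := {g | φ g a = a}
  one_mem' := by simp
  mul_mem' {g h} hg hh := by simp only [Set.mem_ofPred_eq] at *; simp [hg, hh]
  inv_mem' {g} hg := by
    simp only [Set.mem_ofPred_eq] at *
    rw [map_inv, Perm.inv_eq_iff_eq]; exact hg.symm

lemma orbit_count (φ : G →* Perm X) (htr : ∀ x y, ∃ g, φ g x = y) (a : X) :
    Fintype.card X * Fintype.card (stab φ a) = Fintype.card G := by
  have h := Finset.card_eq_sum_card_fiberwise (f := fun g : G => φ g a) (s := univ) (t := univ)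
    (by simp)
  rw [Finset.card_univ] at h
  rw [h, Finset.sum_congr rfl (g := fun _ => Fintype.card (stab φ a)), Finset.sum_const,
    Finset.card_univ, smul_eq_mul]
  intro y _
  obtain ⟨g₀, hg₀⟩ := htr a y
  rw [← Finset.card_univ]
  refine (Finset.card_bij (fun (k : stab φ a) _ => g₀ * (k : G)) ?_ ?_ ?_).symm
  · intro k _
    have hk : φ (k : G) a = a := k.2
    simp [hk, hg₀]
  · intro k _ k' _ e
    exact Subtype.ext (mul_left_cancel e)
  · intro g hg
    simp only [mem_filter, mem_univ, true_and] at hg
    refine ⟨⟨g₀⁻¹ * g, ?_⟩, mem_univ _, by simp⟩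
    show φ (g₀⁻¹ * g) a = a
    rw [map_mul, Perm.mul_apply, hg, map_inv, Perm.inv_eq_iff_eq]; exact hg₀.symm

/-- Number of elements commuting with `g` that send `x` to `y`. -/
lemma move_le (φ : G →* Perm X) (g : G) (x y : X) :
    (univ.filter fun h => Commute g h ∧ φ h x = y).card ≤
      (univ.filter fun h => Commute g h ∧ φ h x = x).card ∧
    (univ.filter fun h => Commute g h ∧ φ h x = y).card ≤
      (univ.filter fun h => Commute g h ∧ φ h y = y).card := by
  by_cases he : ∃ h, Commute g h ∧ φ h x = y
  · obtain ⟨h₀, h1, h2⟩ := he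
    have hi : φ h₀⁻¹ y = x := by rw [← h2]; simp
    refine ⟨Finset.card_le_card_of_injOn (fun h => h₀⁻¹ * h) ?_ fun _ _ _ _ => mul_left_cancel,
      Finset.card_le_card_of_injOn (fun h => h * h₀⁻¹) ?_ fun _ _ _ _ => mul_right_cancel⟩
    · intro h hh
      simp only [coe_filter, mem_univ, true_and, Set.mem_ofPred_eq] at hh ⊢
      exact ⟨h1.inv_right.mul_right hh.1, by rw [map_mul, Perm.mul_apply, hh.2, hi]⟩
    · intro h hh
      simp only [coe_filter, mem_univ, true_and, Set.mem_ofPred_eq] at hh ⊢
      exact ⟨hh.1.mul_right h1.inv_right, by rw [map_mul, Perm.mul_apply, hi, hh.2]⟩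
  · rw [not_exists] at he
    simp [Finset.filter_eq_empty_iff.2 fun h _ => he h]

lemma stab_filter (φ : G →* Perm X) (x : X) (g : stab φ x) :
    (univ.filter fun h : G => Commute (g : G) h ∧ φ h x = x).card = cz g := by
  rw [cz_eq]
  refine (Finset.card_bij (fun (h : stab φ x) _ => (h : G)) ?_ ?_ ?_).symm
  · intro h hh
    simp only [mem_filter, mem_univ, true_and] at hh ⊢
    exact ⟨hh.map (stab φ x).subtype, h.2⟩
  · intro h _ h' _ e
    exact Subtype.ext e
  · intro h hh
    simp only [mem_filter, mem_univ, true_and] at hh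
    exact ⟨⟨h, hh.2⟩, mem_filter.2 ⟨mem_univ _, Subtype.ext hh.1.eq⟩, rfl⟩

lemma stab_sum (φ : G →* Perm X) (x : X) (F : G → ℕ) :
    ∑ g ∈ univ.filter (fun g => φ g x = x), F g = ∑ g : stab φ x, F g := by
  refine (Finset.sum_bij (fun (g : stab φ x) _ => (g : G)) ?_ ?_ ?_ fun _ _ => rfl).symm
  · intro g _
    exact mem_filter.2 ⟨mem_univ _, g.2⟩
  · intro g _ g' _ e
    exact Subtype.ext e
  · intro g hg
    exact ⟨⟨g, (mem_filter.1 hg).2⟩, mem_univ _, rfl⟩

lemma step_trans (φ : G →* Perm X) (hφ : Function.Injective φ) (a : X)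
    (h2 : 2 ≤ Fintype.card X) (htr : ∀ x y, ∃ g, φ g x = y)
    (ih : ∀ e, 0 < e → e < Fintype.card X → Bounded e) :
    pairs G ≤ 2 ^ (Fintype.card X - 1) * Fintype.card G ∧
      fixPairs φ ≤ 2 ^ (Fintype.card X - 1) * Fintype.card G := by
  have hrest : ∀ x : X, ∀ g ∈ stab φ x, ∀ z, φ g z ≠ x ↔ z ≠ x := by
    intro x g hg z
    have hgx : φ g x = x := hg
    exact ⟨fun h e => h (e ▸ hgx), fun h e => h ((φ g).injective (e.trans hgx.symm))⟩
  let θ : ∀ x : X, stab φ x →* Perm {z // z ≠ x} := fun x =>
    restr φ (stab φ x) (fun z => z ≠ x) (hrest x)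
  have hθ : ∀ x, Function.Injective (θ x) := by
    intro x
    rw [injective_iff_map_eq_one]
    intro n hn
    refine Subtype.ext (hφ (Equiv.ext fun z => ?_))
    rw [Subgroup.coe_one, map_one, Perm.one_apply]
    by_cases hz : z = x
    · subst hz; exact n.2
    · exact congrArg Subtype.val (Perm.congr_fun hn ⟨z, hz⟩)
  have hc : ∀ x : X, Fintype.card {z // z ≠ x} = Fintype.card X - 1 := fun x => by
    rw [Fintype.card_subtype_compl, Fintype.card_subtype_eq]
  have hIH : ∀ x : X, pairs (stab φ x) ≤ 2 ^ (Fintype.card X - 2) * Fintype.card (stab φ x) ∧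
      fixPairs (θ x) ≤ 2 ^ (Fintype.card X - 2) * Fintype.card (stab φ x) := fun x => by
    have := ih (Fintype.card X - 1) (by omega) (by omega) (stab φ x) {z // z ≠ x} (θ x) (hθ x) (hc x)
    rwa [Nat.sub_sub] at this
  have hsum : ∑ x : X, Fintype.card (stab φ x) = Fintype.card G := by
    have h1 : ∀ x : X, Fintype.card X * Fintype.card (stab φ x) = Fintype.card G := orbit_count φ htr
    apply Nat.eq_of_mul_eq_mul_left (by omega : 0 < Fintype.card X)
    rw [Finset.mul_sum, Finset.sum_congr rfl fun x _ => h1 x, Finset.sum_const, Finset.card_univ,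
      smul_eq_mul]
  have hpow : 2 ^ (Fintype.card X - 1) = 2 ^ (Fintype.card X - 2) + 2 ^ (Fintype.card X - 2) := by
    rw [← two_mul, ← pow_succ']; congr 1; omega
  have hfix : ∀ (x : X) (g : stab φ x), (univ.filter fun z => φ g z = z).card =
      1 + (univ.filter fun z => θ x g z = z).card := by
    intro x g
    have he : (univ.filter fun z => φ g z = z) =
        insert x ((univ.filter fun z => θ x g z = z).map (Function.Embedding.subtype _)) := by
      ext z
      simp only [mem_filter, mem_univ, true_and, mem_insert, mem_map,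
        Function.Embedding.coe_subtype]
      constructor
      · intro hz
        by_cases hzx : z = x
        · exact Or.inl hzx
        · exact Or.inr ⟨⟨z, hzx⟩, Subtype.ext hz, rfl⟩
      · rintro (rfl | ⟨w, hw, rfl⟩)
        · exact g.2
        · exact congrArg Subtype.val hw
    rw [he, Finset.card_insert_of_notMem, Finset.card_map, add_comm]
    simp
  have hfixle : fixPairs φ ≤ 2 ^ (Fintype.card X - 1) * Fintype.card G := by
    have h1 : fixPairs φ = ∑ x : X, ∑ g : stab φ x, cz (g : G) := by
      simp only [← stab_sum φ _ (fun g => cz g), Finset.sum_filter]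
      rw [Finset.sum_comm, fixPairs]
      refine Finset.sum_congr rfl fun g _ => ?_
      rw [← Finset.sum_filter, Finset.sum_const, smul_eq_mul]
    rw [h1, ← hsum, Finset.mul_sum]
    refine Finset.sum_le_sum fun x _ => ?_
    calc ∑ g : stab φ x, cz (g : G)
        ≤ ∑ g : stab φ x, (univ.filter fun z => φ g z = z).card * cz g := by
          refine Finset.sum_le_sum fun g _ => ?_
          rw [cz_eq (g : G), Finset.card_eq_sum_card_fiberwise (f := fun h => φ h x)
            (t := univ.filter fun z => φ g z = z)]
          · refine le_trans (Finset.sum_le_card_nsmul _ _ (cz g) fun z _ => ?_) (by rw [smul_eq_mul])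
            rw [Finset.filter_filter, ← stab_filter φ x g]
            exact (move_le φ g x z).1
          · intro h hh
            simp only [coe_filter, mem_univ, true_and, Set.mem_ofPred_eq] at hh ⊢
            have hgx : φ (g : G) x = x := g.2
            rw [← Perm.mul_apply, ← map_mul, hh.eq, map_mul, Perm.mul_apply, hgx]
      _ = pairs (stab φ x) + fixPairs (θ x) := by
          simp only [hfix, add_mul, one_mul, Finset.sum_add_distrib, pairs, fixPairs]
          congr!
      _ ≤ _ := by rw [hpow, add_mul]; exact Nat.add_le_add (hIH x).1 (hIH x).2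
  refine ⟨?_, hfixle⟩
  rw [pairs, ← Finset.sum_filter_add_sum_filter_not univ (fun g => ∃ x, φ g x = x) cz, hpow, add_mul]
  refine Nat.add_le_add ?_ ?_
  · calc ∑ g ∈ univ.filter (fun g => ∃ x, φ g x = x), cz g
        ≤ ∑ g : G, ∑ x ∈ univ.filter (fun x => φ g x = x),
            (univ.filter fun h => Commute g h ∧ φ h x = x).card := by
          refine le_trans (Finset.sum_le_sum fun g hg => ?_)
            (Finset.sum_le_sum_of_subset (Finset.subset_univ _))
          obtain ⟨x₀, hx₀⟩ := (mem_filter.1 hg).2
          rw [cz_eq, Finset.card_eq_sum_card_fiberwise (f := fun h => φ h x₀)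
            (t := univ.filter fun z => φ g z = z)]
          · refine Finset.sum_le_sum fun z _ => ?_
            rw [Finset.filter_filter]
            exact (move_le φ g x₀ z).2
          · intro h hh
            simp only [coe_filter, mem_univ, true_and, Set.mem_ofPred_eq] at hh ⊢
            rw [← Perm.mul_apply, ← map_mul, hh.eq, map_mul, Perm.mul_apply, hx₀]
      _ = ∑ x : X, pairs (stab φ x) := by
          simp only [Finset.sum_filter]
          rw [Finset.sum_comm]
          refine Finset.sum_congr rfl fun x _ => ?_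
          rw [← Finset.sum_filter, stab_sum φ x, pairs]
          exact Finset.sum_congr rfl fun g _ => stab_filter φ x g
      _ ≤ _ := by
          rw [← hsum, Finset.mul_sum]
          exact Finset.sum_le_sum fun x _ => (hIH x).1
  · calc ∑ g ∈ univ.filter (fun g => ¬ ∃ x, φ g x = x), cz g
        ≤ ∑ g ∈ univ.filter (fun g => ¬ ∃ x, φ g x = x),
            Fintype.card X * (univ.filter fun h => Commute g h ∧ φ h a = a).card := by
          refine Finset.sum_le_sum fun g _ => ?_
          rw [cz_eq, Finset.card_eq_sum_card_fiberwise (f := fun h => φ h a) (t := univ)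
            (by simp), ← Finset.card_univ, ← smul_eq_mul]
          refine Finset.sum_le_card_nsmul _ _ _ fun z _ => ?_
          rw [Finset.filter_filter]
          exact (move_le φ g a z).1
      _ = Fintype.card X * ∑ h : stab φ a,
            (univ.filter fun g => Commute g (h : G) ∧ ¬ ∃ x, φ g x = x).card := by
          rw [← Finset.mul_sum]
          congr 1
          rw [← stab_sum φ a (fun h =>
            (univ.filter fun g => Commute g h ∧ ¬ ∃ x, φ g x = x).card)]
          simp only [Finset.card_filter, Finset.sum_filter]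
          rw [Finset.sum_congr rfl (s₁ := univ (α := G))
            (g := fun g => ∑ h : G,
              if (φ h a = a) ∧ Commute g h ∧ ¬ ∃ x, φ g x = x then 1 else 0)]
          · rw [Finset.sum_comm]
            refine Finset.sum_congr rfl fun h _ => ?_
            by_cases hh : φ h a = a
            · rw [if_pos hh]
              exact Finset.sum_congr rfl fun g _ => by split_ifs <;> simp_all
            · rw [if_neg hh]
              exact Finset.sum_eq_zero fun g _ => if_neg fun e => hh e.1
          · intro g _
            by_cases hg : ∃ x, φ g x = x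
            · rw [if_neg (not_not_intro hg)]
              exact (Finset.sum_eq_zero fun h _ => if_neg fun e => e.2.2 hg).symm
            · rw [if_pos hg]
              exact Finset.sum_congr rfl fun h _ => by split_ifs <;> simp_all
      _ ≤ Fintype.card X * fixPairs (θ a) := by
          refine Nat.mul_le_mul le_rfl (Finset.sum_le_sum fun h _ => ?_)
          rw [← Finset.card_map (Function.Embedding.subtype _)]
          rw [Finset.card_eq_sum_card_fiberwise (f := fun g => φ g a)
            (t := (univ.filter fun z => θ a h z = z).map (Function.Embedding.subtype _))]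
          · refine (Finset.sum_le_card_nsmul _ _ (cz h) fun z _ => ?_).trans (le_of_eq (by rw [smul_eq_mul]; congr!))
            rw [Finset.filter_filter, ← stab_filter φ a h]
            refine le_trans (Finset.card_le_card fun g hg => ?_) (move_le φ h a z).1
            simp only [mem_filter, mem_univ, true_and] at hg ⊢
            exact ⟨hg.1.1.symm, hg.2⟩
          · intro g hg
            simp only [coe_filter, coe_map, mem_univ, true_and, Set.mem_ofPred_eq] at hg ⊢
            have hne : φ g a ≠ a := fun e => hg.2 ⟨a, e⟩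
            refine ⟨⟨φ g a, hne⟩, Subtype.ext ?_, rfl⟩
            show φ (h : G) (φ g a) = φ g a
            have hha : φ (h : G) a = a := h.2
            rw [← Perm.mul_apply, ← map_mul, ← hg.1.eq, map_mul, Perm.mul_apply, hha]
      _ ≤ Fintype.card X * (2 ^ (Fintype.card X - 2) * Fintype.card (stab φ a)) :=
          Nat.mul_le_mul le_rfl (hIH a).2
      _ = _ := by rw [mul_left_comm, orbit_count φ htr a]

end steps

lemma bounded : ∀ d, 1 ≤ d → Bounded d := by
  intro d
  induction d using Nat.strong_induction_on with
  | _ d IH =>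
    intro hd G X _ _ _ φ hφ hX
    have ih : ∀ e, 0 < e → e < Fintype.card X → Bounded e := fun e he he' => IH e (hX ▸ he') he
    rw [← hX]
    have : Nonempty X := Fintype.card_pos_iff.1 (by omega)
    obtain ⟨a⟩ := this
    by_cases h1 : Fintype.card X = 1
    · have hsub : Subsingleton X := Fintype.card_le_one_iff_subsingleton.1 h1.le
      have : Subsingleton G := ⟨fun g h => hφ (Equiv.ext fun x => Subsingleton.elim _ _)⟩
      classical
      have hone : ∀ g : G, cz g = 1 := fun g => by
        rw [cz_eq, Finset.card_eq_one]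
        exact ⟨1, Finset.eq_singleton_iff_unique_mem.2 ⟨by simp, fun _ _ => Subsingleton.elim _ _⟩⟩
      refine ⟨by simp [pairs, hone, h1], ?_⟩
      simp only [fixPairs, hone, h1]
      refine le_trans (Finset.sum_le_sum (g := fun _ => 1) fun g _ => ?_) (by simp)
      rw [mul_one]; exact (Finset.card_le_univ _).trans h1.le
    · have h2 : 2 ≤ Fintype.card X := by omega
      by_cases htr : ∀ x y, ∃ g, φ g x = y
      · exact step_trans φ hφ a h2 htr ih
      · push Not at htr
        obtain ⟨x, y, hxy⟩ := htr
        exact step_intrans φ hφ x y hxy ih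

/-- A permutation group of degree `d` has at most `2 ^ (d - 1)` classes. -/
theorem card_conjClasses_le {d : ℕ} (hd : 1 ≤ d) (G : Subgroup (Perm (Fin d))) :
    Nat.card (ConjClasses G) ≤ 2 ^ (d - 1) := by
  classical
  have h := (bounded d hd G (Fin d) G.subtype G.subtype_injective (Fintype.card_fin d)).1
  have hc := card_comm_eq_card_conjClasses_mul_card G
  have hp : Nat.card {p : G × G // Commute p.1 p.2} = pairs G := by
    simp only [pairs, cz_eq, Nat.card_eq_fintype_card, Fintype.card_subtype, Finset.card_filter,
      Fintype.sum_prod_type]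
  rw [hp, Nat.card_eq_fintype_card (α := G)] at hc
  rw [hc] at h
  exact Nat.le_of_mul_le_mul_right h Fintype.card_pos

end CfsgLib.ClassesPerm
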